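import Cfsg.Agent.H613.KS.Defs

/-!
# S4577: tools for the configuration `Cfg D x` (helper825)

* `cfg_map` : transport; `noCfg_congr` : transport of `NoCfg`;
* `cfg_le` : the normal 2-subgroups of `C(t)`, `t ∈ D`, are in `D`; `cfg_comm` : `D` is abelian;
* `exists_conj` : an involution of `D` can be replaced by any conjugate;
* `not_mem` : an involution with a normal 2-subgroup of order at least 32, or not elementary abelian, in its
  centraliser is not conjugate into `D`.
-/

set_option autoImplicit false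

open Subgroup Cfsg Cfsg.Agent.H613.KS

namespace Cfsg.Agent.H825.KS

universe u v

section tools

variable {S : Type u} [Group S] {T : Type v} [Group T]

theorem five_map {D : Subgroup S} {y : S} (h : Five D y) (e : S ≃* T) : Five (D.map e.toMonoidHom) (e y) := by
  obtain ⟨h1, ⟨m, hm⟩, h3⟩ := h
  have hmem : ∀ t : T, t ∈ D.map e.toMonoidHom ↔ e.symm t ∈ D := by
    intro t
    rw [mem_map]
    constructor
    · rintro ⟨s, hs, rfl⟩
      show e.symm (e s) ∈ D
      rwa [e.symm_apply_apply]
    · intro ht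
      exact ⟨e.symm t, ht, e.apply_symm_apply t⟩
  refine ⟨fun d => ?_, ⟨m, by rw [MulEquiv.orderOf_eq, hm]⟩, ?_⟩
  · rw [hmem, hmem, map_mul, map_mul, map_inv, e.symm_apply_apply]
    exact h1 _
  · intro A hA hAy
    have hmemA : ∀ s : S, s ∈ A.map e.symm.toMonoidHom ↔ e s ∈ A := by
      intro s
      rw [mem_map]
      constructor
      · rintro ⟨t, ht, rfl⟩
        show e (e.symm t) ∈ A
        rwa [e.apply_symm_apply]
      · intro hs
        exact ⟨e s, hs, e.symm_apply_apply s⟩
    rcases h3 (A.map e.symm.toMonoidHom) (by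
      intro s hs
      have h4 := hA ((hmemA s).1 hs)
      rwa [hmem, e.symm_apply_apply] at h4) (by
      intro a ha
      rw [hmemA] at ha ⊢
      rw [map_mul, map_mul, map_inv]
      exact hAy _ ha) with h5 | h5
    · left
      rw [eq_bot_iff]
      intro t ht
      have h6 : e.symm t ∈ A.map e.symm.toMonoidHom := (hmemA _).2 (by rwa [e.apply_symm_apply])
      rw [h5, mem_bot] at h6
      rw [mem_bot, ← e.apply_symm_apply t, h6, map_one]
    · right
      refine le_antisymm hA fun t ht => ?_
      rw [hmem, ← h5, hmemA, e.apply_symm_apply] at ht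
      exact ht

/-- transport of the configuration -/
theorem cfg_map {D : Subgroup S} {x : S} (h : Cfg D x) (e : S ≃* T) : Cfg (D.map e.toMonoidHom) (e x) := by
  have hmem : ∀ t : T, t ∈ D.map e.toMonoidHom ↔ e.symm t ∈ D := by
    intro t
    rw [mem_map]
    constructor
    · rintro ⟨s, hs, rfl⟩
      show e.symm (e s) ∈ D
      rwa [e.symm_apply_apply]
    · intro ht
      exact ⟨e.symm t, ht, e.apply_symm_apply t⟩
  have hmem2 : ∀ (Q : Subgroup T) (s : S), s ∈ Q.map e.symm.toMonoidHom ↔ e s ∈ Q := by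
    intro Q s
    rw [mem_map]
    constructor
    · rintro ⟨t, ht, rfl⟩
      show e (e.symm t) ∈ Q
      rwa [e.apply_symm_apply]
    · intro hs
      exact ⟨e s, hs, e.symm_apply_apply s⟩
  refine ⟨⟨?_, ?_⟩, ?_, ?_, ?_, ?_, ?_⟩
  · rw [← h.e16.card]
    exact (Nat.card_congr (D.equivMapOfInjective e.toMonoidHom e.injective).toEquiv).symm
  · rintro _ ⟨d, hd, rfl⟩
    show e d * e d = 1
    rw [← map_mul, h.e16.inv d hd, map_one]
  · rw [MulEquiv.orderOf_eq]
    exact h.odd
  · rintro _ ⟨d, hd, rfl⟩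
    show e d * e x = e x * e d
    rw [← map_mul, h.comm d hd, map_mul]
  · intro Q hQ hQx
    obtain ⟨c, hc1, hc2⟩ := h.syl (Q.map e.symm.toMonoidHom) (hQ.map _) (by
      intro q hq
      have h1 := hQx _ ((hmem2 Q q).1 hq)
      apply e.injective
      rw [map_mul, map_mul, h1])
    refine ⟨e c, by rw [← map_mul, hc1, map_mul], fun q hq => ?_⟩
    rw [hmem]
    have h1 := hc2 (e.symm q) ((hmem2 Q _).2 (by rwa [e.apply_symm_apply]))
    simpa only [map_mul, map_inv, e.symm_apply_apply] using h1
  · obtain ⟨y, hy⟩ := h.five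
    exact ⟨e y, five_map hy e⟩
  · intro R hR N hN hNR hNn
    have h1 := h.rad (R.map e.symm.toMonoidHom) (by
      intro r hr
      have h2 := hR ((hmem2 R r).1 hr)
      rw [hmem, e.symm_apply_apply] at h2
      exact h2) (N.map e.symm.toMonoidHom) (hN.map _) (by
      intro n hn
      rw [mem_centralizer_iff]
      intro r hr
      have h2 := mem_centralizer_iff.1 (hNR ((hmem2 N n).1 hn)) (e r) ((hmem2 R r).1 hr)
      apply e.injective
      rw [map_mul, map_mul, h2]) (by
      intro c hc n hn
      rw [hmem2] at hn ⊢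
      rw [map_mul, map_mul, map_inv]
      refine hNn (e c) ?_ (e n) hn
      rw [mem_centralizer_iff]
      intro r hr
      have h2 := mem_centralizer_iff.1 hc (e.symm r) ((hmem2 R _).2 (by rwa [e.apply_symm_apply]))
      have h3 := congrArg e h2
      rwa [map_mul, map_mul, e.apply_symm_apply] at h3)
    intro n hn
    rw [hmem]
    exact h1 ((hmem2 N _).2 (by rwa [e.apply_symm_apply]))

/-- the normal 2-subgroups of the centralizer of `t ∈ D` are in `D` -/
theorem cfg_le {D : Subgroup S} {x : S} (h : Cfg D x) {t : S} (ht : t ∈ D) {N : Subgroup S} (hN2 : IsPGroup 2 N)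
    (hNz : N ≤ centralizer {t}) (hNn : ∀ c ∈ centralizer ({t} : Set S), ∀ n ∈ N, c * n * c⁻¹ ∈ N) : N ≤ D := by
  have h1 : centralizer ((zpowers t : Subgroup S) : Set S) = centralizer ({t} : Set S) := by
    rw [zpowers_eq_closure, centralizer_closure]
  exact h.rad (zpowers t) ((zpowers_le).2 ht) N hN2 (by rw [h1]; exact hNz) (by rw [h1]; exact hNn)

/-- conjugation: an involution of `D` can be replaced by any conjugate -/
theorem exists_conj {D : Subgroup S} {x : S} (h : Cfg D x) {a b : S} (ha : a ∈ D) (hab : IsConj a b) :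
    ∃ (D' : Subgroup S) (x' : S), Cfg D' x' ∧ b ∈ D' := by
  obtain ⟨g, hg⟩ := isConj_iff.1 hab
  refine ⟨_, _, cfg_map h (MulAut.conj g), a, ha, ?_⟩
  show g * a * g⁻¹ = b
  exact hg

theorem cfg_comm {D : Subgroup S} {x : S} (h : Cfg D x) : ∀ a ∈ D, ∀ b ∈ D, a * b = b * a := by
  intro a ha b hb
  have h1 := h.e16.inv _ (D.mul_mem ha hb)
  have h2 := h.e16.inv _ ha
  have h3 := h.e16.inv _ hb
  calc a * b = a * (a * b * (a * b)) * b := by rw [h1, mul_one]
    _ = a * a * (b * a) * (b * b) := by group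
    _ = b * a := by rw [h2, h3, one_mul, mul_one]

/-- an involution whose centraliser has a normal 2-subgroup not of order at most 16 and exponent 2 is not conjugate
into `D` -/
theorem not_mem {z : S} {N : Subgroup S} (hN2 : IsPGroup 2 N) (hNz : N ≤ centralizer {z})
    (hNn : ∀ c ∈ centralizer ({z} : Set S), ∀ n ∈ N, c * n * c⁻¹ ∈ N) (hbad : (∃ n ∈ N, n * n ≠ 1) ∨ 16 < Nat.card N)
    {D : Subgroup S} {x : S} (h : Cfg D x) {t : S} (ht : t ∈ D) : ¬ IsConj z t := by
  intro hzt
  obtain ⟨D', x', h', hz'⟩ := exists_conj h ht hzt.symm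
  have h1 := cfg_le h' hz' hN2 hNz hNn
  rcases hbad with ⟨n, hn, hn1⟩ | hcard
  · exact hn1 (h'.e16.inv n (h1 hn))
  · have hfin : Finite D' := Nat.finite_of_card_ne_zero (by rw [h'.e16.card]; norm_num)
    have h2 := Subgroup.card_le_of_le h1
    rw [h'.e16.card] at h2
    omega

theorem exists_ne_one {D : Subgroup S} {x : S} (h : Cfg D x) : ∃ a ∈ D, a ≠ 1 := by
  by_contra hcon
  push Not at hcon
  have h1 : D = ⊥ := (eq_bot_iff_forall D).2 hcon
  have h2 := h.e16.card
  rw [h1, card_bot] at h2
  omega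

/-- transport of `NoCfg` -/
theorem noCfg_congr (e : S ≃* T) (h : NoCfg T) : NoCfg S := fun _ _ hc => h _ _ (cfg_map hc e)

end tools

end Cfsg.Agent.H825.KS
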