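import Cfsg.Agent.H825.KS.Tools

/-!
# S4577: involutions with centraliser `V × T`, `T` a group in which centralisers of involutions are 2-groups (helper825)

* `ne_one` : `x ≠ 1` if `32 ∣ |S|`;
* `kill_four` : `V` a normal 2-subgroup of `C(t)` of order at most 8, `C(V) = V T` with `V ∩ T = 1`, `[V, T] = 1`, and no
  element of odd order of `T` commutes with an involution of `T` : no element of `D` is conjugate to `t`.
-/

set_option autoImplicit false

open Subgroup Cfsg Cfsg.Agent.H613.KS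

namespace Cfsg.Agent.H825.KS

variable {S : Type*} [Group S]

/-- `x ≠ 1` if the order of the group is divisible by 32 -/
theorem ne_one [Finite S] {D : Subgroup S} {x : S} (h : Cfg D x) (h32 : 32 ∣ Nat.card S) : x ≠ 1 := by
  rintro rfl
  have : Fact (Nat.Prime 2) := ⟨Nat.prime_two⟩
  obtain ⟨Q, hQ⟩ := Sylow.exists_subgroup_card_pow_prime (G := S) 2 (n := 5) (by simpa using h32)
  obtain ⟨c, -, hc⟩ := h.syl Q (IsPGroup.of_card (n := 5) hQ) (fun q _ => by rw [mul_one, one_mul])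
  let f : Q → D := fun q => ⟨c * q * c⁻¹, hc q q.2⟩
  have hf : Function.Injective f := by
    intro a b hab
    have h1 : c * (a : S) * c⁻¹ = c * b * c⁻¹ := congrArg Subtype.val hab
    exact Subtype.ext (mul_left_cancel (mul_right_cancel h1))
  have h1 := Nat.card_le_card_of_injective f hf
  rw [hQ, h.e16.card] at h1
  norm_num at h1

/-- an element of odd order is a power of its square -/
theorem odd_pow {m : S} (h : Odd (orderOf m)) {k : ℕ} (hk : m ^ (2 ^ k) = 1) : m = 1 := by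
  have h1 : orderOf m ∣ 2 ^ k := orderOf_dvd_of_pow_eq_one hk
  have h2 : Nat.Coprime (orderOf m) (2 ^ k) := Nat.Coprime.pow_right k (Nat.coprime_two_right.2 h)
  exact orderOf_eq_one_iff.1 (Nat.Coprime.eq_one_of_dvd h2 h1)

theorem kill_four [Finite S] {D : Subgroup S} {x : S} (h : Cfg D x) (h32 : 32 ∣ Nat.card S) {t : S}
    {V T : Subgroup S} (hV2 : IsPGroup 2 V) (hV8 : Nat.card V ≤ 8) (hVt : ∀ v ∈ V, v * t = t * v)
    (hVn : ∀ c : S, c * t = t * c → ∀ v ∈ V, c * v * c⁻¹ ∈ V)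
    (hcen : ∀ g : S, (∀ v ∈ V, g * v = v * g) → ∃ v ∈ V, ∃ l ∈ T, g = v * l)
    (hVT : ∀ v ∈ V, ∀ l ∈ T, v * l = l * v) (hdis : ∀ v ∈ V, v ∈ T → v = 1)
    (hT : ∀ l ∈ T, l * l = 1 → l ≠ 1 → ∀ m ∈ T, Odd (orderOf m) → m * l = l * m → m = 1) :
    ∀ z ∈ D, ¬ IsConj t z := by
  intro z hz hc
  obtain ⟨D, x, h, htD⟩ := exists_conj h hz hc.symm
  have hVD : V ≤ D := by
    refine cfg_le h htD hV2 (fun v hv => mem_centralizer_singleton_iff.2 (hVt v hv)) fun c hc v hv => ?_
    exact hVn c (mem_centralizer_singleton_iff.1 hc) v hv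
  -- an element outside of `V`
  obtain ⟨d, hd, hdV⟩ : ∃ d ∈ D, d ∉ V := by
    by_contra hcon
    push Not at hcon
    have h1 := Subgroup.card_le_of_le (show D ≤ V from hcon)
    rw [h.e16.card] at h1
    omega
  obtain ⟨v, hv, l, hl, rfl⟩ := hcen d fun w hw => cfg_comm h _ hd w (hVD hw)
  have hlD : l ∈ D := by
    have h1 := D.mul_mem (D.inv_mem (hVD hv)) hd
    rwa [inv_mul_cancel_left] at h1
  have hl1 : l ≠ 1 := by
    rintro rfl
    rw [mul_one] at hdV
    exact hdV hv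
  -- `x ∈ T`
  obtain ⟨w, hw, m, hm, hx⟩ := hcen x fun w hw => (h.comm w (hVD hw)).symm
  have hodd := h.odd
  have hw1 : w = 1 := by
    have h1 : x ^ orderOf x = 1 := pow_orderOf_eq_one x
    have h2 : w ^ orderOf x * m ^ orderOf x = 1 := by
      rw [← (show Commute w m from hVT w hw m hm).mul_pow, ← hx, h1]
    have h3 : w ^ orderOf x = 1 := by
      apply hdis _ (V.pow_mem hw _)
      rw [eq_inv_of_mul_eq_one_left h2]
      exact T.inv_mem (T.pow_mem hm _)
    obtain ⟨k, hk⟩ := hV2 ⟨w, hw⟩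
    have h4 : w ^ 2 ^ k = 1 := congrArg Subtype.val hk
    have h5 : orderOf w ∣ orderOf x := orderOf_dvd_of_pow_eq_one h3
    exact odd_pow (hodd.of_dvd_nat h5) h4
  rw [hw1, one_mul] at hx
  subst hx
  exact ne_one h h32 (hT l hl (h.e16.inv l hlD) hl1 x hm hodd (h.comm l hlD).symm)

end Cfsg.Agent.H825.KS
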