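import Cfsg.Agent.H825.KS.Four
import Cfsg.Agent.H489.KKL.Ru

/-!
# S4577, the row Ru (helper825)

2A : `O_2(C(z))` has elements of order 4; 2B : `C(z) = 2² × Sz(8)` (facts of helper489's row of S4546).
-/

set_option autoImplicit false

namespace Cfsg.Agent.H825.KS.RuRow

open Cfsg Subgroup Cfsg.Agent.H613.KS Cfsg.Agent.SporadicB Cfsg.Agent.RuD.Letters Cfsg.Agent.RuD.Model
open Cfsg.Agent.H489.KKL.RuRow

theorem noCfg : NoCfg RuOrder.H := by
  intro D x h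
  have := H436.TwoRu.finite_H
  obtain ⟨z, hz, hz1⟩ := exists_ne_one h
  rcases OddHalf.D9.Ru.XLevel.isConj_or (h.e16.inv z hz) hz1 with h1 | h1
  · refine not_mem nor_A.two (fun n hn => mem_centralizer_singleton_iff.2 (nor_A.le n hn)) (fun c hc n hn => ?_)
      (Or.inl ⟨_, OddHalf.D9.Ru.XR.S_mem_R, OddHalf.D9.Ru.XLevel.SS_ne⟩) h hz h1
    exact nor_A.nor c (mem_centralizer_singleton_iff.1 hc) n hn
  obtain ⟨C, -⟩ := KFacts.Ru.exists_core H436.TwoRu.isoH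
  have hcj : ∀ a : RuB.A4, a ≠ 0 → IsConj T (C.v a) := by
    intro a ha
    rcases OddHalf.D9.Ru.XLevel.isConj_or (C.v_sq a) (fun h2 => ha (C.v_eq_one h2)) with h2 | h2
    · exfalso
      have h3 := RuB.Local.card_cent_v (C := C) ha
      rw [H805.NilSp.card_cent_isConj h2, OddHalf.D9.Ru.XCover.card_cent] at h3
      norm_num at h3
    · exact h2
  obtain ⟨a, ha⟩ := H436.TwoRu.exists_ne
  have hN := nor_B C ha
  refine kill_four h (by rw [RuOrder.card_H]; norm_num) (t := C.v a) (V := T4 C) (T := C.L) hN.two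
    (by rw [card_T4]; norm_num) hN.le hN.nor ?_ ?_ ?_ ?_ z hz ((hcj a ha).symm.trans h1)
  · intro g hg
    obtain ⟨b, l, hl, hgl⟩ := C.cent a ha g (hg _ ⟨a, rfl⟩)
    exact ⟨_, ⟨b, rfl⟩, l, hl, hgl⟩
  · rintro _ ⟨b, rfl⟩ l hl
    exact C.v_comm b l hl
  · rintro _ ⟨b, rfl⟩ hb
    rw [C.v_notin b hb, C.v_zero]
  · intro l hl hll hl1 m hm hodd hml
    obtain ⟨k, hk, hkl⟩ := RuB.Count.exists_conj_L (C := C) (l := l) ⟨hl, hll, hl1⟩
    obtain ⟨c, e, hce⟩ := RuB.Count.mem_T_of_comm (C := C) (l := k⁻¹ * m * k)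
      (C.L.mul_mem (C.L.mul_mem (C.L.inv_mem hk) hm) hk) (by
        calc k⁻¹ * m * k * C.z 1 = k⁻¹ * (m * (k * C.z 1 * k⁻¹)) * k := by group
          _ = k⁻¹ * (k * C.z 1 * k⁻¹ * m) * k := by rw [hkl, hml]
          _ = C.z 1 * (k⁻¹ * m * k) := by group)
    have h4 : (k⁻¹ * m * k) ^ 2 ^ 2 = 1 := by
      rw [hce, show 2 ^ 2 = 2 * 2 from rfl, pow_mul, pow_two (C.U c e), C.U_sq, pow_two, C.z_sq]
    have h5 : m ^ 2 ^ 2 = 1 := by
      have e : (k⁻¹ * m * k) ^ 2 ^ 2 = k⁻¹ * m ^ 2 ^ 2 * k := by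
        have := conj_pow (a := k⁻¹) (b := m) (i := 2 ^ 2)
        rwa [inv_inv] at this
      rw [e] at h4
      calc m ^ 2 ^ 2 = k * (k⁻¹ * m ^ 2 ^ 2 * k) * k⁻¹ := by group
        _ = 1 := by rw [h4]; group
    exact odd_pow hodd h5

end Cfsg.Agent.H825.KS.RuRow

namespace Cfsg.Agent.H825.KS

open Cfsg Cfsg.Agent.H613.KS Cfsg.Agent.SporadicB

universe u

/-- **S4577, the row Ru** -/
theorem E_Ru {S : Type u} [Group S] (h : Spor.IsoRu S) : NoCfg S := by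
  obtain ⟨e⟩ := h
  exact noCfg_congr (e.trans RuLat.Main.equiv) RuRow.noCfg

end Cfsg.Agent.H825.KS
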