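import Cfsg.Agent.H825.KS.Four
import Cfsg.Agent.H489.KKL.Suz
import Cfsg.Agent.LThreeFour.Inv
import Cfsg.Agent.LThreeFour.Exists

/-!
# S4577, the row Suz (helper825)

2A : `O_2(C(z)) = 2^(1+6)`; 2B : `C(V) = V × L₃(4)`, `V = 2²` (facts of helper489's row of S4546).
-/

set_option autoImplicit false
set_option maxRecDepth 100000

namespace Cfsg.Agent.H825.KS.SuzRow

open Cfsg Subgroup Cfsg.Agent.H613.KS
open Cfsg.Agent.SuzThree.CentA Cfsg.Agent.KFacts.SuzTwoB Cfsg.Agent.KFacts.SuzLFour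
open Cfsg.Agent.H489.KKL.SuzRow
open Cfsg.Spor (Suz)

/-- an element of `L` which commutes with an involution of `L` is a 2-element -/
theorem pow64 {x t : Suz} (hx : x ∈ L) (ht : t ∈ L) (ht2 : t * t = 1) (ht1 : t ≠ 1) (hc : x * t = t * x) :
    x ^ 2 ^ 6 = 1 := by
  obtain ⟨A⟩ := LThreeFour.exists_dat (F := Cfsg.Agent.SporadicA.FieldFour.F4) rfl
    Cfsg.Agent.CTwoTab.SuzPlane.equiv
  obtain ⟨g, hg⟩ := A.invol_conj ⟨t, ht⟩ (fun h => ht1 (congrArg Subtype.val h)) (Subtype.ext ht2)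
  have h1 : (g * ⟨x, hx⟩ * g⁻¹) * A.x 0 2 1 = A.x 0 2 1 * (g * ⟨x, hx⟩ * g⁻¹) := by
    have h2 : (⟨x, hx⟩ : ↥L) * ⟨t, ht⟩ = ⟨t, ht⟩ * ⟨x, hx⟩ := Subtype.ext hc
    rw [← hg]
    calc g * ⟨x, hx⟩ * g⁻¹ * (g * ⟨t, ht⟩ * g⁻¹) = g * (⟨x, hx⟩ * ⟨t, ht⟩) * g⁻¹ := by group
      _ = g * ⟨t, ht⟩ * g⁻¹ * (g * ⟨x, hx⟩ * g⁻¹) := by rw [h2]; group
  obtain ⟨p, hp⟩ := A.cent _ h1
  have hm : g * ⟨x, hx⟩ * g⁻¹ ∈ A.T := A.mem_T.2 ⟨p, hp.symm⟩
  have h2 : (⟨g * ⟨x, hx⟩ * g⁻¹, hm⟩ : ↥A.T) ^ 64 = 1 := by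
    rw [← A.card_T]
    exact pow_card_eq_one'
  have h3 : (g * ⟨x, hx⟩ * g⁻¹) ^ 64 = 1 := congrArg Subtype.val h2
  rw [conj_pow] at h3
  have h4 : (⟨x, hx⟩ : ↥L) ^ 64 = g⁻¹ * (g * ⟨x, hx⟩ ^ 64 * g⁻¹) * g := by group
  have h5 : (⟨x, hx⟩ : ↥L) ^ 64 = 1 := by
    rw [h4, h3]
    group
  exact congrArg Subtype.val h5

/-- `C(V) = V L` -/
theorem cen_V {g : Suz} (hg : ∀ v ∈ V, g * v = v * g) : ∃ v ∈ V, ∃ l ∈ L, g = v * l := by
  have hge : g ∈ CE := mem_CE.2 (hg e0 (mem_V.2 (Or.inr (Or.inl rfl))))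
  have h1 : g ∈ VL := by
    by_contra h1
    have h2 : xe⁻¹ * g ∈ VL := by
      have h3 := Subgroup.mul_mem_iff_of_index_two idx.1 (a := (⟨xe⁻¹, inv_mem xe_mem⟩ : ↥CE)) (b := ⟨g, hge⟩)
      rw [mem_subgroupOf, mem_subgroupOf, mem_subgroupOf] at h3
      exact h3.2 ⟨fun h => absurd (by simpa using inv_mem h) xe_notin, fun h => absurd h h1⟩
    have hm : e1 ∈ V := mem_V.2 (Or.inr (Or.inr (Or.inl rfl)))
    have h3 := VL_cent h2 hm
    have h4 := hg e1 hm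
    have h5 : e1 * xe = xe * e1 := by
      have h6 : xe⁻¹ * (e1 * g) = e1 * (xe⁻¹ * g) := by rw [← h4, ← mul_assoc, h3]
      have h7 : xe⁻¹ * e1 = e1 * xe⁻¹ := by
        have : (xe⁻¹ * e1) * g = (e1 * xe⁻¹) * g := by rw [mul_assoc, h6, mul_assoc]
        exact mul_right_cancel this
      calc e1 * xe = xe * (xe⁻¹ * e1) * xe := by group
        _ = xe * (e1 * xe⁻¹) * xe := by rw [h7]
        _ = xe * e1 := by group
    rw [xe_e1] at h5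
    exact e12_ne (mul_right_cancel h5)
  obtain ⟨v, hv, l, hl, h⟩ := mem_VL.1 h1
  exact ⟨v, hv, l, hl, h.symm⟩

theorem noCfg : NoCfg Suz := by
  intro D x h
  have := H489.KKL.SuzRow.fin
  obtain ⟨z, hz, hz1⟩ := exists_ne_one h
  rcases CTwoTab.Suz.classes (h.e16.inv z hz) hz1 with h1 | h1
  · refine not_mem nor_A.two (fun n hn => mem_centralizer_singleton_iff.2 (nor_A.le n hn)) (fun c hc n hn => ?_)
      (Or.inr ?_) h hz h1
    · exact nor_A.nor c (mem_centralizer_singleton_iff.1 hc) n hn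
    · rw [KFacts.SuzR.card_R]
      norm_num
  have hN := nor_B
  refine kill_four h (by rw [Cfsg.Agent.SporadicRecognition.SuzOrder.card_Suz]; norm_num) (t := e0) (V := V) (T := L)
    hN.two (by rw [card_V]; norm_num) hN.le hN.nor (fun g hg => cen_V hg) V_comm (fun v => V_cap_L) ?_ z hz h1
  intro l hl hll hl1 m hm hodd hml
  exact odd_pow hodd (pow64 hm hl hll hl1 hml)

end Cfsg.Agent.H825.KS.SuzRow

namespace Cfsg.Agent.H825.KS

open Cfsg Cfsg.Agent.H613.KS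

universe u

/-- **S4577, the row Suz** -/
theorem E_Suz {S : Type u} [Group S] (h : Spor.IsoSuz S) : NoCfg S := by
  obtain ⟨e⟩ := h
  exact noCfg_congr e SuzRow.noCfg

end Cfsg.Agent.H825.KS
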